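import Cfsg.Agent.H619.BD.KData
import Cfsg.Agent.H395.K4.M12
import Cfsg.Agent.H921.K4.M22
import Cfsg.Agent.H300.K4.JTwo
import Cfsg.Agent.H90.R4.JThree
import Cfsg.Agent.H492.K4J4

/-!
# S4932, rows `M12`, `M22`, `J2`, `J3`, `J4`, `p = 2` (helper89)
-/

set_option autoImplicit false

namespace Cfsg.Agent.H89.BD

open Cfsg Cfsg.Agent.H619.BD Cfsg.Agent.H619.R4

universe u

theorem rc_of_rat {S : Type*} [Group S] {χ : S → ℂ} (hχ : IsIrrCharacter S χ) (hr : ∀ g, ∃ q : ℚ, χ g = q)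
    {d : ℕ} (h1 : χ 1 = d) : RC S d := by
  refine ⟨⟨χ, hχ⟩, fun g => ?_, Cfsg.Agent.Blocks.Basic.charDegree_of_eq h1⟩
  obtain ⟨q, hq⟩ := hr g
  show (χ g).im = 0
  rw [hq]
  exact Complex.ratCast_im q

theorem kd_m12 {S : Type u} [Group S] (h : Spor.IsoM12 S) : KD 2 S := by
  obtain ⟨e⟩ := h
  have hfin : Finite Spor.M12 := Nat.finite_of_card_ne_zero (by rw [Cfsg.Agent.H395.K4.M12.card]; norm_num)
  refine KD.congr e.symm ?_
  exact KD.real (a := 11) (b := 55) 11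
    (rc_of_rat Cfsg.Agent.H395.K4.M12.irr11 Cfsg.Agent.H395.K4.M12.rat11 Cfsg.Agent.H395.K4.M12.c11_one)
    (rc_of_rat Cfsg.Agent.H395.K4.M12.irr55 Cfsg.Agent.H395.K4.M12.rat55 Cfsg.Agent.H395.K4.M12.c55_one)
    (by decide) (by decide) (by norm_num) (by norm_num) (by norm_num) (by norm_num) (by norm_num) (by norm_num)
    (by norm_num)

theorem kd_m22 {S : Type u} [Group S] (h : Spor.IsoM22 S) : KD 2 S := by
  have hM := Cfsg.Agent.H921.K4.M22.isM22 h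
  have hfin : Finite S := Nat.finite_of_card_ne_zero (by rw [hM.2]; norm_num)
  obtain ⟨f, hf⟩ := Cfsg.Agent.H417.DegMTwentyTwo.exists_enum hM
  have key : ∀ i : Fin 12, i = 0 ∨ i = 1 ∨ i = 4 ∨ i = 5 ∨ i = 8 ∨ i = 11 →
      RC S (Cfsg.Agent.M22.DegreesEnd.LB.getD i 0) := by
    intro i hi
    have h1 := Cfsg.Agent.H921.K4.M22.hD i hi
    have h2 := Cfsg.Agent.H921.K4.uniq_of_enum f Cfsg.Agent.H921.K4.M22.D hf i h1.1 h1.2
    exact ⟨f i, h2.real, hf i⟩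
  have h21 : RC S 21 := key 1 (by simp)
  have h231 : RC S 231 := key 8 (by simp)
  exact KD.real 7 h21 h231 (by decide) (by decide) (by norm_num) (by norm_num) (by norm_num) (by norm_num) (by norm_num)
    (by norm_num) (by norm_num)

theorem kd_j2 {S : Type u} [Group S] (h : Spor.IsoJ2 S) : KD 2 S := by
  obtain ⟨f⟩ := Cfsg.Agent.J2.HundredGens.J2_iso Cfsg.Agent.H300.K4.JTwo.card_J2
  obtain ⟨e⟩ := h
  refine KD.congr (e.trans f).symm ?_
  obtain ⟨a, ha1, ha2, ha3⟩ := Cfsg.Agent.H300.K4.JTwoDeg.exists_63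
  obtain ⟨b, hb1, hb2, hb3⟩ := Cfsg.Agent.H300.K4.JTwoDeg.exists_175
  exact KD.real 7 (rc_of_rat ha1 (fun g => ⟨_, ha3 g⟩) ha2) (rc_of_rat hb1 hb3 hb2) (by decide) (by decide) (by norm_num)
    (by norm_num) (by norm_num) (by norm_num) (by norm_num) (by norm_num) (by norm_num)

theorem kd_j3 {S : Type u} [Group S] (h : Spor.IsoJ3 S) : KD 2 S := by
  have hc : Nat.card S = 50232960 := NotCT.Orders.j3 h
  have hfin : Finite S := Nat.finite_of_card_ne_zero (by rw [hc]; norm_num)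
  obtain ⟨χ, h1, h2⟩ := Cfsg.Agent.H90.R4.J3.exists_real h (d₀ := 1215) Cfsg.Agent.H90.R4.J3.chk_a
    Cfsg.Agent.H90.R4.J3.bd_a
  obtain ⟨ψ, h3, h4⟩ := Cfsg.Agent.H90.R4.J3.exists_real h (d₀ := 1615) Cfsg.Agent.H90.R4.J3.chk_b
    Cfsg.Agent.H90.R4.J3.bd_b
  exact KD.real 5 ⟨χ, h1, Cfsg.Agent.Blocks.Basic.charDegree_of_eq h2⟩
    ⟨ψ, h3, Cfsg.Agent.Blocks.Basic.charDegree_of_eq h4⟩ (by decide) (by decide) (by norm_num)
    (by norm_num) (by norm_num) (by norm_num) (by norm_num) (by norm_num) (by norm_num)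

theorem kd_j4 {S : Type u} [Group S] (h : Spor.IsoJ4 S) : KD 2 S := by
  obtain ⟨e⟩ := h
  have hfin := Cfsg.Agent.H492.IMJ4.finite_j4
  refine KD.congr e.symm ?_
  obtain ⟨χ, h1, h2⟩ := Cfsg.Agent.H492.K4J4.val_889111
  obtain ⟨ψ, h3, h4⟩ := Cfsg.Agent.H492.K4J4.val_4290927
  exact KD.real 43 (RC.of_conj (fun g => h2 (starRingEnd ℂ) g) h1) (RC.of_conj (fun g => h4 (starRingEnd ℂ) g) h3)
    (by decide) (by decide) (by norm_num)
    (by norm_num) (by norm_num) (by norm_num) (by norm_num) (by norm_num) (by norm_num)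

end Cfsg.Agent.H89.BD
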